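import Mathlib

/-!
# Data for the cubic form group of type E₆ (owner: helper33)

Generated tables; all properties used are checked in the files importing this one.
-/

set_option autoImplicit false

namespace Cfsg.Agent.E6Cubic

/-- Why a moved vector has a nonzero coordinate among the candidates. -/
inductive Kind
  | any
  | one (a a' : Fin 27)
  | two (a a' b b' : Fin 27)

/-- A branch: the target coordinate, paths moving candidates to it, and the sweep. -/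
structure Branch where
  target : Fin 27
  paths : List (Fin 27 × List (ℕ × Fin 27))
  sweep : List (ℕ × Fin 27)

/-- A reduction certificate. -/
inductive Cert
  | done
  | stop (w : Fin 27) (k : Kind)
  | step (w : Fin 27) (k : Kind) (b : Branch) (c : Cert)
  | split (w : Fin 27) (k : Kind) (b₁ : Branch) (c₁ : Cert) (b₂ : Branch) (c₂ : Cert)

/-- The monomials of the cubic form. -/
def monList : List (Fin 27 × Fin 27 × Fin 27 × ℤ) :=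
  [
    (0, 4, 8, 1), (0, 5, 7, -1), (1, 3, 8, -1), (1, 5, 6, 1), (2, 3, 7, 1),
    (2, 4, 6, -1), (9, 13, 17, 1), (9, 14, 16, -1), (10, 12, 17, -1), (10, 14, 15, 1),
    (11, 12, 16, 1), (11, 13, 15, -1), (18, 22, 26, 1), (18, 23, 25, -1), (19, 21, 26, -1),
    (19, 23, 24, 1), (20, 21, 25, 1), (20, 22, 24, -1), (0, 9, 18, -1), (0, 10, 21, -1),
    (0, 11, 24, -1), (1, 12, 18, -1), (1, 13, 21, -1), (1, 14, 24, -1), (2, 15, 18, -1),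
    (2, 16, 21, -1), (2, 17, 24, -1), (3, 9, 19, -1), (3, 10, 22, -1), (3, 11, 25, -1),
    (4, 12, 19, -1), (4, 13, 22, -1), (4, 14, 25, -1), (5, 15, 19, -1), (5, 16, 22, -1),
    (5, 17, 25, -1), (6, 9, 20, -1), (6, 10, 23, -1), (6, 11, 26, -1), (7, 12, 20, -1),
    (7, 13, 23, -1), (7, 14, 26, -1), (8, 15, 20, -1), (8, 16, 23, -1), (8, 17, 26, -1)]

/-- The root vectors in the representation on 27 coordinates. -/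
def rootList : List (List (Fin 27 × Fin 27 × ℤ)) :=
  [
    [(7, 16, 1), (8, 13, -1), (9, 26, -1), (11, 20, 1), (21, 3, 1), (22, 0, -1)],
    [(7, 15, 1), (8, 12, -1), (10, 26, 1), (11, 23, -1), (18, 3, 1), (19, 0, -1)],
    [(2, 0, 1), (5, 3, 1), (8, 6, 1), (9, 15, -1), (10, 16, -1), (11, 17, -1)],
    [(1, 0, -1), (4, 3, -1), (7, 6, -1), (9, 12, 1), (10, 13, 1), (11, 14, 1)],
    [(7, 17, -1), (8, 14, 1), (9, 23, -1), (10, 20, 1), (24, 3, -1), (25, 0, 1)],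
    [(5, 26, 1), (8, 25, -1), (11, 1, 1), (14, 0, -1), (18, 16, 1), (21, 15, -1)],
    [(4, 26, -1), (7, 25, 1), (11, 2, 1), (17, 0, -1), (18, 13, -1), (21, 12, 1)],
    [(6, 0, 1), (7, 1, 1), (8, 2, 1), (18, 20, -1), (21, 23, -1), (24, 26, -1)],
    [(4, 16, 1), (5, 13, -1), (9, 25, -1), (11, 19, 1), (21, 6, -1), (23, 0, 1)],
    [(5, 20, -1), (8, 19, 1), (9, 1, -1), (12, 0, 1), (21, 17, -1), (24, 16, 1)],
    [(4, 20, 1), (7, 19, -1), (9, 2, -1), (15, 0, 1), (21, 14, 1), (24, 13, -1)],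
    [(4, 15, 1), (5, 12, -1), (10, 25, 1), (11, 22, -1), (18, 6, -1), (20, 0, 1)],
    [(5, 23, 1), (8, 22, -1), (10, 1, 1), (13, 0, -1), (18, 17, -1), (24, 15, 1)],
    [(4, 23, -1), (7, 22, 1), (10, 2, 1), (16, 0, -1), (18, 14, 1), (24, 12, -1)],
    [(4, 17, -1), (5, 14, 1), (9, 22, -1), (10, 19, 1), (24, 6, 1), (26, 0, -1)],
    [(3, 0, 1), (4, 1, 1), (5, 2, 1), (18, 19, -1), (21, 22, -1), (24, 25, -1)],
    [(2, 26, 1), (8, 24, -1), (11, 4, -1), (14, 3, 1), (19, 16, -1), (22, 15, 1)],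
    [(1, 26, -1), (7, 24, 1), (11, 5, -1), (17, 3, 1), (19, 13, 1), (22, 12, -1)],
    [(6, 3, -1), (7, 4, -1), (8, 5, -1), (19, 20, 1), (22, 23, 1), (25, 26, 1)],
    [(1, 16, 1), (2, 13, -1), (9, 24, -1), (11, 18, 1), (22, 6, 1), (23, 3, -1)],
    [(2, 20, -1), (8, 18, 1), (9, 4, 1), (12, 3, -1), (22, 17, 1), (25, 16, -1)],
    [(1, 20, 1), (7, 18, -1), (9, 5, 1), (15, 3, -1), (22, 14, -1), (25, 13, 1)],
    [(11, 10, 1), (14, 13, 1), (17, 16, 1), (21, 24, -1), (22, 25, -1), (23, 26, -1)],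
    [(6, 16, -1), (8, 10, 1), (12, 26, -1), (14, 20, 1), (21, 4, 1), (22, 1, -1)],
    [(6, 13, 1), (7, 10, -1), (15, 26, -1), (17, 20, 1), (21, 5, 1), (22, 2, -1)],
    [(9, 10, 1), (12, 13, 1), (15, 16, 1), (21, 18, -1), (22, 19, -1), (23, 20, -1)],
    [(1, 15, 1), (2, 12, -1), (10, 24, 1), (11, 21, -1), (19, 6, 1), (20, 3, -1)],
    [(2, 23, 1), (8, 21, -1), (10, 4, -1), (13, 3, 1), (19, 17, 1), (25, 15, -1)],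
    [(1, 23, -1), (7, 21, 1), (10, 5, -1), (16, 3, 1), (19, 14, -1), (25, 12, 1)],
    [(1, 17, -1), (2, 14, 1), (9, 21, -1), (10, 18, 1), (25, 6, -1), (26, 3, 1)],
    [(11, 9, -1), (14, 12, -1), (17, 15, -1), (18, 24, 1), (19, 25, 1), (20, 26, 1)],
    [(6, 15, 1), (8, 9, -1), (13, 26, -1), (14, 23, 1), (18, 4, -1), (19, 1, 1)],
    [(6, 12, -1), (7, 9, 1), (16, 26, -1), (17, 23, 1), (18, 5, -1), (19, 2, 1)],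
    [(2, 25, 1), (5, 24, -1), (11, 7, 1), (14, 6, -1), (20, 16, 1), (23, 15, -1)],
    [(2, 1, 1), (5, 4, 1), (8, 7, 1), (12, 15, -1), (13, 16, -1), (14, 17, -1)],
    [(1, 25, 1), (4, 24, -1), (11, 8, -1), (17, 6, 1), (20, 13, 1), (23, 12, -1)],
    [(6, 17, 1), (8, 11, -1), (12, 23, -1), (13, 20, 1), (24, 4, -1), (25, 1, 1)],
    [(1, 2, 1), (4, 5, 1), (7, 8, 1), (15, 12, -1), (16, 13, -1), (17, 14, -1)],
    [(6, 14, -1), (7, 11, 1), (15, 23, -1), (16, 20, 1), (24, 5, -1), (25, 2, 1)],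
    [(2, 19, 1), (5, 18, -1), (9, 7, 1), (12, 6, -1), (23, 17, 1), (26, 16, -1)],
    [(1, 19, 1), (4, 18, -1), (9, 8, -1), (15, 6, 1), (23, 14, 1), (26, 13, -1)],
    [(9, 11, -1), (12, 14, -1), (15, 17, -1), (24, 18, 1), (25, 19, 1), (26, 20, 1)],
    [(3, 26, 1), (6, 25, -1), (14, 2, 1), (17, 1, -1), (18, 10, 1), (21, 9, -1)],
    [(3, 16, 1), (5, 10, -1), (12, 25, 1), (14, 19, -1), (21, 7, 1), (23, 1, -1)],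
    [(3, 13, 1), (4, 10, -1), (15, 25, -1), (17, 19, 1), (21, 8, -1), (23, 2, 1)],
    [(3, 20, -1), (6, 19, 1), (12, 2, -1), (15, 1, 1), (21, 11, -1), (24, 10, 1)],
    [(10, 9, 1), (13, 12, 1), (16, 15, 1), (18, 21, -1), (19, 22, -1), (20, 23, -1)],
    [(2, 22, -1), (5, 21, 1), (10, 7, -1), (13, 6, 1), (20, 17, 1), (26, 15, -1)],
    [(1, 22, -1), (4, 21, 1), (10, 8, 1), (16, 6, -1), (20, 14, 1), (26, 12, -1)],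
    [(10, 11, 1), (13, 14, 1), (16, 17, 1), (24, 21, -1), (25, 22, -1), (26, 23, -1)],
    [(3, 15, -1), (5, 9, 1), (13, 25, 1), (14, 22, -1), (18, 7, -1), (20, 1, 1)],
    [(3, 12, -1), (4, 9, 1), (16, 25, -1), (17, 22, 1), (18, 8, 1), (20, 2, -1)],
    [(3, 23, -1), (6, 22, 1), (13, 2, -1), (16, 1, 1), (18, 11, 1), (24, 9, -1)],
    [(3, 6, -1), (4, 7, -1), (5, 8, -1), (20, 19, 1), (23, 22, 1), (26, 25, 1)],
    [(3, 17, 1), (5, 11, -1), (12, 22, -1), (13, 19, 1), (24, 7, 1), (26, 1, -1)],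
    [(3, 14, 1), (4, 11, -1), (15, 22, 1), (16, 19, -1), (24, 8, -1), (26, 2, 1)],
    [(0, 3, 1), (1, 4, 1), (2, 5, 1), (19, 18, -1), (22, 21, -1), (25, 24, -1)],
    [(0, 26, -1), (6, 24, 1), (14, 5, 1), (17, 4, -1), (19, 10, 1), (22, 9, -1)],
    [(0, 16, -1), (2, 10, 1), (12, 24, -1), (14, 18, 1), (22, 7, 1), (23, 4, -1)],
    [(0, 13, -1), (1, 10, 1), (15, 24, 1), (17, 18, -1), (22, 8, -1), (23, 5, 1)],
    [(0, 20, 1), (6, 18, -1), (12, 5, -1), (15, 4, 1), (22, 11, -1), (25, 10, 1)],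
    [(0, 15, 1), (2, 9, -1), (13, 24, -1), (14, 21, 1), (19, 7, -1), (20, 4, 1)],
    [(0, 12, 1), (1, 9, -1), (16, 24, 1), (17, 21, -1), (19, 8, 1), (20, 5, -1)],
    [(0, 23, 1), (6, 21, -1), (13, 5, -1), (16, 4, 1), (19, 11, 1), (25, 9, -1)],
    [(0, 6, 1), (1, 7, 1), (2, 8, 1), (20, 18, -1), (23, 21, -1), (26, 24, -1)],
    [(0, 17, -1), (2, 11, 1), (12, 21, 1), (13, 18, -1), (25, 7, 1), (26, 4, -1)],
    [(0, 14, -1), (1, 11, 1), (15, 21, -1), (16, 18, 1), (25, 8, -1), (26, 5, 1)],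
    [(0, 25, 1), (3, 24, -1), (14, 8, 1), (17, 7, -1), (20, 10, 1), (23, 9, -1)],
    [(0, 1, -1), (3, 4, -1), (6, 7, -1), (12, 9, 1), (13, 10, 1), (14, 11, 1)],
    [(0, 2, 1), (3, 5, 1), (6, 8, 1), (15, 9, -1), (16, 10, -1), (17, 11, -1)],
    [(0, 19, -1), (3, 18, 1), (12, 8, -1), (15, 7, 1), (23, 11, -1), (26, 10, 1)],
    [(0, 22, -1), (3, 21, 1), (13, 8, -1), (16, 7, 1), (20, 11, 1), (26, 9, -1)]]

/-- The weights of the coordinates. -/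
def weightList : List (List ℤ) :=
  [
    [1, 0, 0, 0, 0, 0],
    [1, 0, -1, 0, 1, -1],
    [1, 0, -1, 1, -1, 0],
    [-1, 0, 1, 0, 0, 0],
    [-1, 0, 0, 0, 1, -1],
    [-1, 0, 0, 1, -1, 0],
    [0, 0, 1, -1, 0, 1],
    [0, 0, 0, -1, 1, 0],
    [0, 0, 0, 0, -1, 1],
    [0, -1, -1, 1, 0, 0],
    [0, 1, -1, 0, 0, 0],
    [0, 0, 0, 0, 0, -1],
    [0, -1, 0, 1, -1, 1],
    [0, 1, 0, 0, -1, 1],
    [0, 0, 1, 0, -1, 0],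
    [0, -1, 0, 0, 1, 0],
    [0, 1, 0, -1, 1, 0],
    [0, 0, 1, -1, 1, -1],
    [-1, 1, 1, -1, 0, 0],
    [1, 1, 0, -1, 0, 0],
    [0, 1, 0, 0, 0, -1],
    [-1, -1, 1, 0, 0, 0],
    [1, -1, 0, 0, 0, 0],
    [0, -1, 0, 1, 0, -1],
    [-1, 0, 0, 0, 0, 1],
    [1, 0, -1, 0, 0, 1],
    [0, 0, -1, 1, 0, 0]]

/-- A left inverse of the weights. -/
def weightInv : List (List ℤ) :=
  [
    [1, 0, 0, 0, 0, 0, 0, 0, 0, 0, 0, 0, 0, 0, 0, 0, 0, 0, 0, 0, 0, 0, 0, 0, 0, 0, 0],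
    [1, 0, 0, 1, 0, 0, 0, 0, 0, 0, 1, 0, 0, 0, 0, 0, 0, 0, 0, 0, 0, 0, 0, 0, 0, 0, 0],
    [1, 0, 0, 1, 0, 0, 0, 0, 0, 0, 0, 0, 0, 0, 0, 0, 0, 0, 0, 0, 0, 0, 0, 0, 0, 0, 0],
    [2, 0, 0, 2, 0, 0, 0, 0, 0, 1, 1, 0, 0, 0, 0, 0, 0, 0, 0, 0, 0, 0, 0, 0, 0, 0, 0],
    [2, 0, -1, 1, 0, 0, 0, 0, 0, 1, 1, 0, 0, 0, 0, 0, 0, 0, 0, 0, 0, 0, 0, 0, 0, 0, 0],
    [2, -1, -1, 0, 0, 0, 0, 0, 0, 1, 1, 0, 0, 0, 0, 0, 0, 0, 0, 0, 0, 0, 0, 0, 0, 0, 0]]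

/-- The defect of the left inverse in terms of the monomials. -/
def weightDefect : List (List ℤ) :=
  [
    [0, 0, 0, 0, 0, 0, 0, 0, 0, 0, 0, 0, 0, 0, 0, 0, 0, 0, 0, 0, 0, 0, 0, 0, 0, 0, 0, 0, 0, 0, 0, 0, 0, 0, 0, 0, 0, 0, 0, 0, 0, 0, 0, 0, 0],
    [0, 0, 0, 0, 0, 0, 0, 0, 0, 0, 0, 0, 0, 0, 0, 0, 0, 0, 0, 0, 0, 0, 0, 0, 0, 0, 0, 0, 0, 0, 0, 0, 0, 0, 0, 0, 0, 0, 0, 0, 0, 0, 0, 0, 0],
    [0, 0, 0, 0, 0, 0, 0, 0, 0, 0, 0, 0, 0, 0, 0, 0, 0, 0, 0, 0, 0, 0, 0, 0, 0, 0, 0, 0, 0, 0, 0, 0, 0, 0, 0, 0, 0, 0, 0, 0, 0, 0, 0, 0, 0],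
    [0, 0, 0, 0, 0, 0, 0, 0, 0, 0, 0, 0, 0, 0, 0, 0, 0, 0, 0, 0, 0, 0, 0, 0, 0, 0, 0, 0, 0, 0, 0, 0, 0, 0, 0, 0, 0, 0, 0, 0, 0, 0, 0, 0, 0],
    [1, 0, -1, 0, 0, 0, 0, 0, 0, 0, 0, 0, 0, 0, 0, 0, 0, 0, 0, 0, 0, 0, 0, 0, 0, 0, 0, 0, 0, 0, 0, 0, 0, 0, 0, 0, 0, 0, 0, 0, 0, 0, 0, 0, 0],
    [0, 1, 0, 0, -1, 0, 0, 0, 0, 0, 0, 0, 0, 0, 0, 0, 0, 0, 0, 0, 0, 0, 0, 0, 0, 0, 0, 0, 0, 0, 0, 0, 0, 0, 0, 0, 0, 0, 0, 0, 0, 0, 0, 0, 0],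
    [0, -1, 0, 1, 1, 0, 0, 0, 0, 0, 0, 0, 0, 0, 0, 0, 0, 0, 0, 0, 0, 0, 0, 0, 0, 0, 0, 0, 0, 0, 0, 0, 0, 0, 0, 0, 0, 0, 0, 0, 0, 0, 0, 0, 0],
    [0, 0, 0, 0, 1, 0, 0, 0, 0, 0, 0, 0, 0, 0, 0, 0, 0, 0, 0, 0, 0, 0, 0, 0, 0, 0, 0, 0, 0, 0, 0, 0, 0, 0, 0, 0, 0, 0, 0, 0, 0, 0, 0, 0, 0],
    [0, 0, 1, 0, 0, 0, 0, 0, 0, 0, 0, 0, 0, 0, 0, 0, 0, 0, 0, 0, 0, 0, 0, 0, 0, 0, 0, 0, 0, 0, 0, 0, 0, 0, 0, 0, 0, 0, 0, 0, 0, 0, 0, 0, 0],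
    [0, 0, 0, 0, 0, 0, 0, 0, 0, 0, 0, 0, 0, 0, 0, 0, 0, 0, 0, 0, 0, 0, 0, 0, 0, 0, 0, 0, 0, 0, 0, 0, 0, 0, 0, 0, 0, 0, 0, 0, 0, 0, 0, 0, 0],
    [0, 0, 0, 0, 0, 0, 0, 0, 0, 0, 0, 0, 0, 0, 0, 0, 0, 0, 0, 0, 0, 0, 0, 0, 0, 0, 0, 0, 0, 0, 0, 0, 0, 0, 0, 0, 0, 0, 0, 0, 0, 0, 0, 0, 0],
    [0, 0, 0, 0, 0, 0, 0, -1, 0, 1, 1, 0, 0, 0, 0, 0, 0, 0, 2, 0, 0, -1, 0, 0, -1, 0, 0, 0, 0, 0, 0, 0, 0, 0, 0, 0, 0, 0, 0, 0, 0, 0, 0, 0, 0],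
    [0, 0, 0, 0, 0, 0, 0, 0, 0, 0, 0, 0, 0, 0, 0, 0, 0, 0, -1, 0, 0, 1, 0, 0, 0, 0, 0, 0, 0, 0, 0, 0, 0, 0, 0, 0, 0, 0, 0, 0, 0, 0, 0, 0, 0],
    [0, 0, 0, 0, 0, 0, 1, 0, -1, 0, 0, 0, 0, 0, 0, 0, 0, 0, -1, 0, 0, 1, 0, 0, 0, 0, 0, 0, 0, 0, 0, 0, 0, 0, 0, 0, 0, 0, 0, 0, 0, 0, 0, 0, 0],
    [0, 0, 0, 0, 0, 0, 0, 0, 0, 1, 0, 0, 0, 0, 0, 0, 0, 0, 1, 0, 0, 0, 0, 0, -1, 0, 0, 0, 0, 0, 0, 0, 0, 0, 0, 0, 0, 0, 0, 0, 0, 0, 0, 0, 0],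
    [0, 0, 0, 0, 0, 0, 0, 0, 0, 0, 0, 0, 0, 0, 0, 0, 0, 0, -1, 0, 0, 0, 0, 0, 1, 0, 0, 0, 0, 0, 0, 0, 0, 0, 0, 0, 0, 0, 0, 0, 0, 0, 0, 0, 0],
    [0, 0, 0, 0, 0, 0, 0, 1, 0, -1, 0, 0, 0, 0, 0, 0, 0, 0, -1, 0, 0, 0, 0, 0, 1, 0, 0, 0, 0, 0, 0, 0, 0, 0, 0, 0, 0, 0, 0, 0, 0, 0, 0, 0, 0],
    [0, 0, 0, 0, 0, 0, 0, 0, 1, 0, 0, 0, 0, 0, 0, 0, 0, 0, 1, 0, 0, -1, 0, 0, 0, 0, 0, 0, 0, 0, 0, 0, 0, 0, 0, 0, 0, 0, 0, 0, 0, 0, 0, 0, 0],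
    [0, 0, 0, 0, 0, 0, 0, 0, 0, 0, 0, 0, 0, 0, 0, 0, 0, 0, 1, 0, 0, 0, 0, 0, 0, 0, 0, 0, 0, 0, 0, 0, 0, 0, 0, 0, 0, 0, 0, 0, 0, 0, 0, 0, 0],
    [0, 0, 0, 0, 0, 0, 0, 0, 0, 0, 0, 0, 0, 0, 0, 0, 0, 0, 0, 0, 0, 0, 0, 0, 0, 0, 0, 1, 0, 0, 0, 0, 0, 0, 0, 0, 0, 0, 0, 0, 0, 0, 0, 0, 0],
    [0, 0, 0, 0, 0, 0, 0, -1, 0, 1, 1, 0, 0, -1, 0, 1, 1, 0, 3, -1, -1, -1, 0, 0, -1, 0, 0, -1, 0, 0, 0, 0, 0, 0, 0, 0, 0, 0, 0, 0, 0, 0, 0, 0, 0],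
    [0, 0, 0, 0, 0, 0, 0, 0, 0, 0, 0, 0, 0, 0, 0, 0, 0, 0, 0, 1, 0, 0, 0, 0, 0, 0, 0, 0, 0, 0, 0, 0, 0, 0, 0, 0, 0, 0, 0, 0, 0, 0, 0, 0, 0],
    [0, 0, 0, 0, 0, 0, 0, 0, 0, 0, 0, 0, 1, 0, -1, 0, 0, 0, -1, 1, 0, 0, 0, 0, 0, 0, 0, 1, 0, 0, 0, 0, 0, 0, 0, 0, 0, 0, 0, 0, 0, 0, 0, 0, 0],
    [0, 0, 0, 0, 0, 0, 0, -1, 0, 1, 1, 0, 0, 0, 0, 1, 0, 0, 2, 0, -1, -1, 0, 0, -1, 0, 0, -1, 0, 0, 0, 0, 0, 0, 0, 0, 0, 0, 0, 0, 0, 0, 0, 0, 0],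
    [0, 0, 0, 0, 0, 0, 0, 1, 0, -1, -1, 0, 0, 0, 0, 0, 0, 0, -2, 0, 1, 1, 0, 0, 1, 0, 0, 0, 0, 0, 0, 0, 0, 0, 0, 0, 0, 0, 0, 0, 0, 0, 0, 0, 0],
    [0, 0, 0, 0, 0, 0, 0, 1, 0, -1, -1, 0, 0, 1, 0, -1, 0, 0, -3, 0, 1, 1, 0, 0, 1, 0, 0, 1, 0, 0, 0, 0, 0, 0, 0, 0, 0, 0, 0, 0, 0, 0, 0, 0, 0],
    [0, 0, 0, 0, 0, 0, 0, 0, 0, 0, 0, 0, 0, 0, 1, 0, 0, 0, 0, -1, 0, 0, 0, 0, 0, 0, 0, -1, 0, 0, 0, 0, 0, 0, 0, 0, 0, 0, 0, 0, 0, 0, 0, 0, 0]]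

/-- Coordinates on the Lie algebra: position and coefficient. -/
def coordList : List (List (Fin 27 × Fin 27 × ℤ)) :=
  [
    [(0, 0, 1)],
    [(0, 0, 1), (3, 3, 1), (10, 10, 1)],
    [(0, 0, 1), (3, 3, 1)],
    [(0, 0, 2), (3, 3, 2), (9, 9, 1), (10, 10, 1)],
    [(0, 0, 2), (2, 2, -1), (3, 3, 1), (9, 9, 1), (10, 10, 1)],
    [(0, 0, 2), (1, 1, -1), (2, 2, -1), (9, 9, 1), (10, 10, 1)],
    [(7, 16, 1)],
    [(7, 15, 1)],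
    [(2, 0, 1)],
    [(1, 0, -1)],
    [(7, 17, -1)],
    [(5, 26, 1)],
    [(4, 26, -1)],
    [(6, 0, 1)],
    [(4, 16, 1)],
    [(5, 20, -1)],
    [(4, 20, 1)],
    [(4, 15, 1)],
    [(5, 23, 1)],
    [(4, 23, -1)],
    [(4, 17, -1)],
    [(3, 0, 1)],
    [(2, 26, 1)],
    [(1, 26, -1)],
    [(6, 3, -1)],
    [(1, 16, 1)],
    [(2, 20, -1)],
    [(1, 20, 1)],
    [(11, 10, 1)],
    [(6, 16, -1)],
    [(6, 13, 1)],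
    [(9, 10, 1)],
    [(1, 15, 1)],
    [(2, 23, 1)],
    [(1, 23, -1)],
    [(1, 17, -1)],
    [(11, 9, -1)],
    [(6, 15, 1)],
    [(6, 12, -1)],
    [(2, 25, 1)],
    [(2, 1, 1)],
    [(1, 25, 1)],
    [(6, 17, 1)],
    [(1, 2, 1)],
    [(6, 14, -1)],
    [(2, 19, 1)],
    [(1, 19, 1)],
    [(9, 11, -1)],
    [(3, 26, 1)],
    [(3, 16, 1)],
    [(3, 13, 1)],
    [(3, 20, -1)],
    [(10, 9, 1)],
    [(2, 22, -1)],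
    [(1, 22, -1)],
    [(10, 11, 1)],
    [(3, 15, -1)],
    [(3, 12, -1)],
    [(3, 23, -1)],
    [(3, 6, -1)],
    [(3, 17, 1)],
    [(3, 14, 1)],
    [(0, 3, 1)],
    [(0, 26, -1)],
    [(0, 16, -1)],
    [(0, 13, -1)],
    [(0, 20, 1)],
    [(0, 15, 1)],
    [(0, 12, 1)],
    [(0, 23, 1)],
    [(0, 6, 1)],
    [(0, 17, -1)],
    [(0, 14, -1)],
    [(0, 25, 1)],
    [(0, 1, -1)],
    [(0, 2, 1)],
    [(0, 19, -1)],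
    [(0, 22, -1)]]

/-- A part of the reduction certificate. -/
def cert28 : Cert :=
  .done

/-- A part of the reduction certificate. -/
def cert27 : Cert :=
  .step 26 .any ⟨26, [(26, [])], []⟩ cert28

/-- A part of the reduction certificate. -/
def cert26 : Cert :=
  .step 25 .any ⟨25, [(25, [])], []⟩ cert27

/-- A part of the reduction certificate. -/
def cert25 : Cert :=
  .step 24 .any ⟨24, [(24, [])], []⟩ cert26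

/-- A part of the reduction certificate. -/
def cert24 : Cert :=
  .step 23 .any ⟨23, [(23, [])], []⟩ cert25

/-- A part of the reduction certificate. -/
def cert23 : Cert :=
  .step 22 .any ⟨22, [(22, [])], []⟩ cert24

/-- A part of the reduction certificate. -/
def cert22 : Cert :=
  .step 20 .any ⟨20, [(20, [])], []⟩ cert23

/-- A part of the reduction certificate. -/
def cert21 : Cert :=
  .step 19 .any ⟨19, [(19, [])], []⟩ cert22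

/-- A part of the reduction certificate. -/
def cert20 : Cert :=
  .step 17 .any ⟨17, [(17, [])], []⟩ cert21

/-- A part of the reduction certificate. -/
def cert19 : Cert :=
  .step 16 .any ⟨16, [(16, [])], []⟩ cert20

/-- A part of the reduction certificate. -/
def cert18 : Cert :=
  .step 15 .any ⟨15, [(15, [])], []⟩ cert19

/-- A part of the reduction certificate. -/
def cert17 : Cert :=
  .step 14 .any ⟨14, [(14, [])], []⟩ cert18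

/-- A part of the reduction certificate. -/
def cert16 : Cert :=
  .step 13 .any ⟨13, [(13, [])], []⟩ cert17

/-- A part of the reduction certificate. -/
def cert15 : Cert :=
  .step 12 .any ⟨12, [(12, [])], []⟩ cert16

/-- A part of the reduction certificate. -/
def cert14 : Cert :=
  .step 6 .any ⟨6, [(6, [])], []⟩ cert15

/-- A part of the reduction certificate. -/
def cert13 : Cert :=
  .step 3 .any ⟨3, [(3, [])], []⟩ cert14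

/-- A part of the reduction certificate. -/
def cert12 : Cert :=
  .step 2 .any ⟨2, [(2, [])], []⟩ cert13

/-- A part of the reduction certificate. -/
def cert11 : Cert :=
  .step 1 .any ⟨1, [(1, [])], []⟩ cert12

/-- A part of the reduction certificate. -/
def cert29 : Cert :=
  .stop 1 .any

/-- A part of the reduction certificate. -/
def cert10 : Cert :=
  .split 11 .any ⟨11, [(11, [])], []⟩ cert11 ⟨24, [(24, [])], []⟩ cert29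

/-- A part of the reduction certificate. -/
def cert9 : Cert :=
  .step 21 (.two 0 0 10 10) ⟨21, [(21, [])], [(26, 11), (49, 24)]⟩ cert10

/-- A part of the reduction certificate. -/
def cert8 : Cert :=
  .step 10 .any ⟨10, [(10, []), (24, [(26, 10)]), (11, [(22, 10)]), (21, [(22, 24), (26, 10)])], [(22, 11), (45, 24)]⟩ cert9

/-- A part of the reduction certificate. -/
def cert7 : Cert :=
  .step 18 (.two 0 0 9 9) ⟨18, [(18, [])], [(29, 10), (19, 11), (25, 21), (41, 24)]⟩ cert8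

/-- A part of the reduction certificate. -/
def cert6 : Cert :=
  .step 9 .any ⟨9, [(9, []), (10, [(25, 9)]), (11, [(30, 9)]), (18, [(19, 11), (30, 9)]), (21, [(29, 9)]), (24, [(19, 9)])], [(46, 10), (30, 11), (42, 21), (52, 24)]⟩ cert7

/-- A part of the reduction certificate. -/
def cert5 : Cert :=
  .step 7 (.two 0 0 5 5) ⟨7, [(7, [])], [(39, 9), (47, 10), (33, 11), (50, 18), (43, 21), (54, 24)]⟩ cert6

/-- A part of the reduction certificate. -/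
def cert4 : Cert :=
  .step 5 .any ⟨5, [(5, []), (7, [(17, 24), (33, 5)]), (9, [(21, 5)]), (10, [(28, 5)]), (11, [(17, 5)]), (18, [(32, 5)]), (21, [(24, 5)]), (24, [(33, 5)])], [(21, 9), (28, 10), (17, 11), (32, 18), (24, 21), (38, 24)]⟩ cert5

/-- A part of the reduction certificate. -/
def cert3 : Cert :=
  .step 8 (.two 0 0 4 4) ⟨8, [(8, [])], [(64, 2), (53, 5), (69, 6), (37, 7), (40, 9), (48, 10), (35, 11), (70, 12), (71, 13), (67, 14), (51, 18), (62, 19), (44, 21), (59, 22), (55, 24), (66, 25)]⟩ cert4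

/-- A part of the reduction certificate. -/
def cert2 : Cert :=
  .step 4 (.one 0 0) ⟨4, [(4, []), (5, [(34, 4)]), (7, [(18, 4)]), (8, [(16, 24), (35, 4)]), (9, [(20, 4)]), (10, [(27, 4)]), (11, [(16, 4)]), (18, [(31, 4)]), (21, [(23, 4)]), (24, [(35, 4)])], [(56, 1), (68, 3), (34, 5), (18, 7), (20, 9), (27, 10), (16, 11), (60, 15), (63, 16), (57, 17), (31, 18), (61, 20), (23, 21), (58, 23), (36, 24), (65, 26)]⟩ cert3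

/-- A part of the reduction certificate. -/
def cert1 : Cert :=
  .step 0 .any ⟨0, [(0, []), (1, [(3, 0)]), (2, [(2, 0)]), (3, [(15, 0)]), (4, [(3, 3), (15, 0)]), (5, [(2, 3), (15, 0)]), (6, [(7, 0)]), (7, [(0, 16), (13, 0)]), (8, [(0, 13), (12, 0)]), (9, [(0, 26), (14, 0)]), (10, [(1, 26), (14, 0)]), (11, [(0, 20), (11, 0)]), (12, [(9, 0)]), (13, [(12, 0)]), (14, [(5, 0)]), (15, [(10, 0)]), (16, [(13, 0)]), (17, [(6, 0)]), (18, [(1, 3), (15, 0)]), (19, [(1, 0)]), (20, [(11, 0)]), (21, [(0, 3), (15, 0)]), (22, [(0, 0)]), (23, [(8, 0)]), (24, [(4, 3), (15, 0)]), (25, [(4, 0)]), (26, [(14, 0)])], [(3, 1), (2, 2), (15, 3), (7, 6), (9, 12), (12, 13), (5, 14), (10, 15), (13, 16), (6, 17), (1, 19), (11, 20), (0, 22), (8, 23), (4, 25), (14, 26)]⟩ cert2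

/-- The reduction certificate. -/
def reduceCert : Cert :=
  cert1

end Cfsg.Agent.E6Cubic
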